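import Mathlib
import Cfsg.Prelude.Def_GeometricClasses
import Cfsg.Agent.Lib.Helper27.ASC.Defs
import Cfsg.Agent.Lib.helper23.ASCO.Defs

/-!
# Project OX9 (leader helper23) : S5835, the maximal subgroups of `Ω_9(q)`, `q` odd, ON TOP OF project ASO (S5673)

Shared vocabulary: the three classes of the frozen text of S5835 that project ASCO did not need (`ClassDec`, `ClassField`,
`ClassWreath`; `ClassTS`, `ClassND`, `ClassFrame`, `ClassSub` are in `Cfsg.Agent.Lib.helper23.ASCO`), stated for an arbitrary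
index type and form, and the conclusion `ConclO9`.
-/

set_option autoImplicit false

namespace Cfsg.Agent.Lib.helper23.OX9

open Cfsg Cfsg.Geo Cfsg.Agent.Lib.Helper27.ASC Cfsg.Agent.Lib.helper23.ASCO
open scoped MatrixGroups Matrix

variable {ι : Type} [Fintype ι] [DecidableEq ι] {F : Type*} [Field F]

/-- class 2, decompositions into `t` pairwise orthogonal isometric non-degenerate `k`-spaces -/
def ClassDec (t k : ℕ) (Q : (ι → F) → F) (H : Subgroup (GL ι F)) : Prop :=
  ∃ D : Fin t → Submodule F (ι → F), IsOrthogonalMDecomposition Q k D ∧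
    H = decompositionStabilizer D ⊓ omegaGL Q

/-- class 3, self-adjoint field subalgebras of degree `r` -/
def ClassField (r : ℕ) (Q : (ι → F) → F) (H : Subgroup (GL ι F)) : Prop :=
  ∃ K : Subalgebra F (Matrix ι ι F), IsFieldSubalgebra r K ∧ IsSelfAdjointFor (QuadraticMap.polar Q) K ∧
    H = subalgebraNormalizer K ⊓ omegaGL Q

/-- class 7, tensor powers `k ^ t` -/
def ClassWreath (k t : ℕ) (Q : (ι → F) → F) (H : Subgroup (GL ι F)) : Prop :=
  ∃ (e : ι ≃ (Fin t → Fin k)) (P : GL ι F) (f₁ : (Fin k → F) → (Fin k → F) → F), IsSymmetricForm f₁ ∧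
    IsTensorPowerFormStructure id (QuadraticMap.polar Q) f₁ e P ∧ H = tensorWreathSubgroup k t e P ⊓ omegaGL Q

/-- The conclusion of S5835 for a form `Q` on `F^ι` (`|ι| = 9`). -/
def ConclO9 [Fintype F] (Q : (ι → F) → F) (H : Subgroup (GL ι F)) : Prop :=
  ClassTS Q H ∨ ClassND Q H ∨ ((Fintype.card F).Prime ∧ ClassFrame 9 Q H) ∨
    (5 ≤ Fintype.card F ∧ ClassDec 3 3 Q H) ∨ ClassField 3 Q H ∨ ClassSub Q H ∨
    (5 ≤ Fintype.card F ∧ ClassWreath 3 2 Q H) ∨ InOrthogonalResidualClass H

end Cfsg.Agent.Lib.helper23.OX9
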